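import Mathlib.RingTheory.IsTensorProduct
import Mathlib.RingTheory.TensorProduct.Basic

/-!
# Tensor products over a pushout square of rings
-/

set_option autoImplicit false
set_option linter.style.haveILetI false

universe u

open TensorProduct

noncomputable section

namespace Groth.Agent.BCTen1

variable (A B C D : Type u) [CommRing A] [CommRing B] [CommRing C] [CommRing D] [Algebra A B] [Algebra A C]
  [Algebra A D] [Algebra B D] [Algebra C D] [IsScalarTower A B D] [IsScalarTower A C D] [Algebra.IsPushout A B C D]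

/-- `N ⊗_A M` for a `B`-module and a `C`-module is the tensor product of their extensions to the pushout. -/
theorem exists_pairEquiv {N M P Q : Type u} [AddCommGroup N] [Module A N] [Module B N] [IsScalarTower A B N]
    [AddCommGroup M] [Module A M] [Module C M] [IsScalarTower A C M]
    [AddCommGroup P] [Module B P] [Module D P] [IsScalarTower B D P]
    [AddCommGroup Q] [Module C Q] [Module D Q] [IsScalarTower C D Q]
    {ηN : N →ₗ[B] P} (hN : IsBaseChange D ηN) {ηM : M →ₗ[C] Q} (hM : IsBaseChange D ηM) :
    ∃ Φ : N ⊗[A] M ≃+ P ⊗[D] Q, ∀ n m, Φ (n ⊗ₜ m) = ηN n ⊗ₜ ηM m := by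
  let e₁ := (AlgebraTensorModule.cancelBaseChange A B B N M).symm
  let e₂ := LinearEquiv.lTensor N (Algebra.IsPushout.cancelBaseChange A B C D M).symm
  let e₃ := TensorProduct.comm B N (D ⊗[C] M)
  let e₄ := (AlgebraTensorModule.cancelBaseChange B D D (D ⊗[C] M) N).symm
  let e₅ := TensorProduct.congr hM.equiv hN.equiv
  let e₆ := TensorProduct.comm D Q P
  refine ⟨(((((e₁.toAddEquiv.trans e₂.toAddEquiv).trans e₃.toAddEquiv).trans e₄.toAddEquiv).trans
    e₅.toAddEquiv).trans e₆.toAddEquiv), fun n m => ?_⟩
  simp [e₁, e₂, e₃, e₄, e₅, e₆, IsBaseChange.equiv_tmul]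

end Groth.Agent.BCTen1
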