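import Groth.Agent.Lib.BCTen1.Pair

/-!
# Flat coefficients commute with cohomology
-/

set_option autoImplicit false
set_option linter.style.haveILetI false
set_option linter.unusedSectionVars false
set_option maxHeartbeats 1000000

universe u

open CategoryTheory CategoryTheory.Limits AlgebraicGeometry TopologicalSpace Opposite Groth.Agent.ModLimH13
  TensorProduct

noncomputable section

namespace Groth.Agent.BCTen1

open Groth.Agent.CBC10 Groth.Agent.FlatBC10 Groth.Agent.CohFound

attribute [-instance] CohFound.abelianAb CohFound.hasExtAb CohFound.isGrothendieckAbelianAb CohFound.enoughInjectivesAb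

variable {X S X' S' : Scheme.{u}} {f : X ⟶ S} {g : S' ⟶ S} {f' : X' ⟶ S'} {g' : X' ⟶ X}
  {U : S.Opens} {V : S'.Opens}

variable (F : X.Modules) (G : S'.Modules) (f' g') in
/-- The sheaf `f'^* G ⊗ g'^* F`. -/
abbrev tmod : X'.Modules :=
  CohB1.tensorMod ((Scheme.Modules.pullback f').obj G) ((Scheme.Modules.pullback g').obj F)

/-- `G(V) ⊗ H^q(f⁻¹U, F) = H^q(f'⁻¹V, f'^* G ⊗ g'^* F)` for `G` flat over the base. -/
theorem exists_pairing (h : IsPullback g' f' f g) [QuasiCompact f] [QuasiSeparated f]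
    (F : X.Modules) [hF : Coh.IsQCoh F] (G : S'.Modules) [hG : Coh.IsQCoh G] (hfl : FlatMod.IsFlatOver g G)
    (hU : IsAffineOpen U) (hV : IsAffineOpen V) (eV : V ≤ g ⁻¹ᵁ U) (e : f' ⁻¹ᵁ V ≤ g' ⁻¹ᵁ (f ⁻¹ᵁ U)) (q : ℕ) :
    letI := overU f hU
    letI := Module.compHom Γ(G, V) (g.appLE U V eV).hom
    ∃ Φ : Γ(G, V) ⊗[Γ(S, U)] Coh.HH (f ⁻¹ᵁ U).toScheme (resU f F U) q →+
        Coh.HHon X' (tmod f' g' F G) (f' ⁻¹ᵁ V) q,
      Function.Bijective Φ ∧ ∀ n (x : Coh.HHon X F (f ⁻¹ᵁ U) q), Φ (n ⊗ₜ x) =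
        CohPull.mapH (mul _ _ (f' ⁻¹ᵁ V) (M2.pullSec f' G n)) q
          (CohPull.pullOn g' (f ⁻¹ᵁ U) (f' ⁻¹ᵁ V) e F q x) := by
  letI := overU f hU
  letI := overU f' hV
  letI := Module.compHom Γ(G, V) (g.appLE U V eV).hom
  letI := (g.appLE U V eV).hom.toAlgebra
  haveI : IsScalarTower Γ(S, U) Γ(S', V) Γ(G, V) := IsScalarTower.of_algebraMap_smul fun _ _ => rfl
  haveI : Module.Flat Γ(S, U) Γ(G, V) := FibDepth5.flat_sections g G hfl hU hV eV
  let W : X.Opens := f ⁻¹ᵁ U
  let W' : X'.Opens := f' ⁻¹ᵁ V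
  let g₁ : W'.toScheme ⟶ W.toScheme := g'.resLE W W' e
  haveI : IsAffineHom g₁ :=
    MorphismProperty.of_isPullback (isPullback_affine h hU hV eV e).flip inferInstance
  let T := (tmod f' g' F G).restrict W'.ι
  haveI hT : Coh.IsQCoh T :=
    M1.isQCoh_restrict (M2.isQCoh_tensor (M1.isQCoh_pullback f' hG) (M1.isQCoh_pullback g' hF)) _
  let R := resU f F U
  haveI hR : Coh.IsQCoh R := M1.isQCoh_restrict hF _
  let c : CoefHom (actOf Γ(S, U) R) (actPush Γ(S', V) g₁ T) Γ(G, V) :=
    { η := fun n => (SheafOfModules.toSheaf W.toScheme.ringCatSheaf).map (et e F G n)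
      add := fun m n =>
        (congrArg (SheafOfModules.toSheaf W.toScheme.ringCatSheaf).map (et_add e F G m n)).trans
          (Functor.map_add _)
      src := fun a n => by
        show (SheafOfModules.toSheaf _).map (Formal.smulModΓ R (Coh.toGlobal (f ∣_ U ≫ hU.isoSpec.hom) a)) ≫
          (SheafOfModules.toSheaf _).map (et e F G n) = (SheafOfModules.toSheaf _).map (et e F G (g.appLE U V eV a • n))
        rw [toGlobal_overU]
        exact ((SheafOfModules.toSheaf W.toScheme.ringCatSheaf).map_comp _ _).symm.trans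
          (congrArg (SheafOfModules.toSheaf W.toScheme.ringCatSheaf).map (et_src e F G h.w eV a n))
      tgt := fun b n => by
        show (SheafOfModules.toSheaf _).map (et e F G n) ≫ (SheafOfModules.toSheaf _).map
          ((Scheme.Modules.pushforward g₁).map
            (Formal.smulModΓ T (Coh.toGlobal (f' ∣_ V ≫ hV.isoSpec.hom) b))) =
          (SheafOfModules.toSheaf _).map (et e F G (b • n))
        rw [toGlobal_overU]
        exact ((SheafOfModules.toSheaf W.toScheme.ringCatSheaf).map_comp _ _).symm.trans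
          (congrArg (SheafOfModules.toSheaf W.toScheme.ringCatSheaf).map (et_tgt e F G b n)) }
  have haff : ∀ {O : W.toScheme.Opens}, IsAffineOpen O → ∀ p, Function.Bijective (c.φ p O) := fun {O} hO p => by
    cases p with
    | zero =>
      obtain ⟨Ψ, hΨ, hΨt⟩ := exists_secPair e F G h hU hV eV hO
      letI := Module.compHom Γ(F, W.ι ''ᵁ O) (f.appLE U (W.ι ''ᵁ O) (image_le _ O)).hom
      let L : (actOf Γ(S, U) R).H 0 O ≃ₗ[Γ(S, U)] Γ(F, W.ι ''ᵁ O) :=
        (show (actOf Γ(S, U) R).H 0 O ≃+ Γ(F, W.ι ''ᵁ O) from hc0 ((abF W.toScheme).obj R) O).toLinearEquiv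
          fun a x => by
            refine (hc0_mp ((actOf Γ(S, U) R).e a) O x).trans ?_
            show (Formal.smulModΓ R (Coh.toGlobal (f ∣_ U ≫ hU.isoSpec.hom) a)).app O _ = _
            rw [toGlobal_overU]
            refine (smulModΓ_scal_app F W (f.app U a) O (image_le _ O) _).trans ?_
            have hr : M1.ores (image_le W O) (f.app U a) = f.appLE U (W.ι ''ᵁ O) (image_le _ O) a := rfl
            rw [hr]
            rfl
      let E : Γ(G, V) ⊗[Γ(S, U)] (actOf Γ(S, U) R).H 0 O → _ := fun z => Ψ (L.lTensor Γ(G, V) z)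
      have key : ∀ z, hc0 (actPush Γ(S', V) g₁ T).F O (c.φ 0 O z) = E z := fun z => by
        induction z using TensorProduct.induction_on with
        | zero => simp only [E, map_zero]; exact map_zero (hc0 (actPush Γ(S', V) g₁ T).F O)
        | add a b ha hb =>
          simp only [E, map_add] at ha hb ⊢
          exact (map_add (hc0 (actPush Γ(S', V) g₁ T).F O) _ _).trans (congrArg₂ (· + ·) ha hb)
        | tmul n x => exact (hc0_mp (c.η n) O x).trans (hΨt n _).symm
      have hE : Function.Bijective E := hΨ.comp (L.lTensor Γ(G, V)).bijective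
      refine ⟨fun x y exy => hE.1 ((key x).symm.trans
        ((congrArg (hc0 (actPush Γ(S', V) g₁ T).F O) exy).trans (key y))), fun t => ?_⟩
      obtain ⟨z, hz⟩ := hE.2 (hc0 (actPush Γ(S', V) g₁ T).F O t)
      exact ⟨z, (hc0 (actPush Γ(S', V) g₁ T).F O).injective ((key z).trans hz)⟩
    | succ p =>
      haveI : Coh.IsQCoh ((Scheme.Modules.pushforward g₁).obj T) := M1.isQCoh_push g₁ hT
      haveI : Subsingleton ((actOf Γ(S, U) R).H (p + 1) O) := subsingleton_hc_isAffineOpen R hO p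
      haveI : Subsingleton (c.HB (p + 1) O) :=
        @Equiv.subsingleton _ _ (mpEquiv (abFPushIso g₁ T) (p + 1) O).symm.toEquiv
          (subsingleton_hc_isAffineOpen ((Scheme.Modules.pushforward g₁).obj T) hO p)
      haveI : Subsingleton (Γ(G, V) ⊗[Γ(S, U)] (actOf Γ(S, U) R).H (p + 1) O) := by
        refine subsingleton_of_forall_eq 0 fun z => ?_
        induction z using TensorProduct.induction_on with
        | zero => rfl
        | add a b ha hb => rw [ha, hb, add_zero]
        | tmul b x => rw [Subsingleton.elim x 0, TensorProduct.tmul_zero]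
      exact ⟨fun _ _ _ => Subsingleton.elim _ _, fun y => ⟨0, Subsingleton.elim _ _⟩⟩
  haveI : QuasiCompact (f ∣_ U ≫ hU.isoSpec.hom) := inferInstance
  haveI : CompactSpace W.toScheme := QuasiCompact.compactSpace_of_compactSpace (f ∣_ U ≫ hU.isoSpec.hom)
  haveI : QuasiSeparatedSpace W.toScheme :=
    quasiSeparatedSpace_of_quasiSeparated (f ∣_ U ≫ hU.isoSpec.hom)
  have hbij : ∀ p, Function.Bijective (c.φ p ⊤) :=
    qcqs_induction (P := fun O => ∀ p, Function.Bijective (c.φ p O)) (fun _ hO => haff hO)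
      (fun O O' _ _ h₁ h₂ h₃ => CoefHom.bijective_sup c O O' h₁ h₂ h₃) (U := ⊤) isCompact_univ
  let e₁ : Coh.HH W.toScheme R q ≃ₗ[Γ(S, U)] (actOf Γ(S, U) R).H q ⊤ :=
    { hhExt R q with map_smul' := hExtP_smul R q }
  let N' : CohTop.Ab W'.toScheme := Coh.toAb T
  let ε : Sheaf.H ((CohTop.push g₁.base).obj N') q ≃+ c.HB q ⊤ := hExt _ q
  have hedge : Function.Bijective (edgeF g₁.base N' q) :=
    bijective_edgeF g₁.base W.toScheme.isBasis_affineOpens q N'
      fun p _ O hO => subsingleton_hc_isAffineOpen T (IsAffineOpen.preimage hO g₁) p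
  let m := TensorProduct.AlgebraTensorModule.congr (LinearEquiv.refl Γ(S', V) Γ(G, V)) e₁
  refine ⟨(edgeF g₁.base N' q).comp (ε.symm.toAddMonoidHom.comp
    ((c.φ q ⊤).toAddMonoidHom.comp m.toAddEquiv.toAddMonoidHom)),
    hedge.comp (ε.symm.bijective.comp ((hbij q).comp m.bijective)), fun n x => ?_⟩
  have h1 : ε.symm (c.φ q ⊤ (m (n ⊗ₜ x))) = Sheaf.H.map (c.η n) q x :=
    ε.symm_apply_eq.2 (hExt_map (c.η n) q x).symm
  refine (congrArg (edgeF g₁.base N' q) h1).trans ?_
  refine (pullF_eq_edgeF g₁.base _ q x).symm.trans ?_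
  refine Eq.trans ?_ (congrArg (CohPull.mapH (mul _ _ (f' ⁻¹ᵁ V) (M2.pullSec f' G n)) q)
    (pullOn_eq g' W W' e F q x)).symm
  exact (mapH_pullF g₁ (aOn g' W W' e F) (mul _ _ (f' ⁻¹ᵁ V) (M2.pullSec f' G n)) q x).symm

end Groth.Agent.BCTen1
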