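import Groth.Agent.Lib.BCTen1.Pull
import Groth.Agent.Lib.CBC10.SectAff
import Groth.Agent.Lib.CBC10.TensorSec
import Groth.Agent.Lib.KoszShH13.Glue

/-!
# Multiplication of higher direct images with sections
-/

set_option autoImplicit false
set_option linter.style.haveILetI false
set_option linter.unusedSectionVars false
set_option maxHeartbeats 1000000

universe u

open CategoryTheory CategoryTheory.Limits AlgebraicGeometry TopologicalSpace Opposite Groth.Agent.ModLimH13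
  TensorProduct

noncomputable section

namespace Groth.Agent.BCTen1

open Groth.Agent.CBC10

open CohFound in
attribute [-instance] abelianAb hasExtAb isGrothendieckAbelianAb enoughInjectivesAb

variable {X S X' S' : Scheme.{u}} {f : X ⟶ S} {g : S' ⟶ S} {f' : X' ⟶ S'} {g' : X' ⟶ X}
  (w : g' ≫ f = f' ≫ g) [HasInjectiveResolutions X.Modules] [HasInjectiveResolutions X'.Modules]
  [QuasiCompact f] [QuasiSeparated f] [QuasiCompact f'] [QuasiSeparated f']
  {Δ : RDer.DerivedLES (Scheme.Modules.pushforward f)} {Δ' : RDer.DerivedLES (Scheme.Modules.pushforward f')}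
  (E : CohCmp.SectCmp f Δ) (E' : CohCmp.SectCmp f' Δ') (F : X.Modules) [Coh.IsQCoh F] (p : ℕ)

/-- Multiplication of higher direct images with sections of the base. -/
theorem exists_nu (G : S'.Modules) [hG : Coh.IsQCoh G] (H : X'.Modules) [hH : Coh.IsQCoh H] :
    ∃ ν : CohB1.tensorMod G ((Coh.Rpush f' p).obj H) ⟶
        (Coh.Rpush f' p).obj (CohB1.tensorMod ((Scheme.Modules.pullback f').obj G) H),
      ∀ (V : S'.Opens), IsAffineOpen V → ∀ (n : Γ(G, V)) (x : Coh.HHon X' H (f' ⁻¹ᵁ V) p),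
        ν.app V (M2.tsec G _ n (E'.ε V H p x)) =
          E'.ε V _ p (CohPull.mapH (mul _ H (f' ⁻¹ᵁ V) (M2.pullSec f' G n)) p x) := by
  let T := CohB1.tensorMod ((Scheme.Modules.pullback f').obj G) H
  let e₁ : ∀ V : S'.affineOpens, Coh.HHon X' H (f' ⁻¹ᵁ V.1) p ≃+ Γ((Coh.Rpush f' p).obj H, V.1) := fun V =>
    AddEquiv.ofBijective (E'.ε V.1 H p) (bijective_ε_affine E' H V.2 p)
  let b : ∀ (V : S'.affineOpens), Γ(G, V.1) → Γ((Coh.Rpush f' p).obj H, V.1) → Γ((Coh.Rpush f' p).obj T, V.1) :=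
    fun V n t => E'.ε V.1 T p (CohPull.mapH (mul _ H (f' ⁻¹ᵁ V.1) (M2.pullSec f' G n)) p ((e₁ V).symm t))
  have hb : ∀ (V : S'.affineOpens) n x, b V n (E'.ε V.1 H p x) =
      E'.ε V.1 T p (CohPull.mapH (mul _ H (f' ⁻¹ᵁ V.1) (M2.pullSec f' G n)) p x) := fun V n x =>
    congrArg (fun t => E'.ε V.1 T p (CohPull.mapH (mul _ H (f' ⁻¹ᵁ V.1) (M2.pullSec f' G n)) p t))
      ((e₁ V).symm_apply_apply x)
  have hr : ∀ (V : S'.affineOpens) n t t', b V n (t + t') = b V n t + b V n t' := fun V n t t' => by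
    simp only [b, map_add]
  have hl : ∀ (V : S'.affineOpens) n n' t, b V (n + n') t = b V n t + b V n' t := fun V n n' t => by
    refine (congrArg (fun s => E'.ε V.1 T p (CohPull.mapH (mul _ H (f' ⁻¹ᵁ V.1) s) p ((e₁ V).symm t)))
      (M2.pullSec_add f' G n n')).trans ?_
    refine (congrArg (E'.ε V.1 T p) ((congrArg (fun φ => CohPull.mapH φ p ((e₁ V).symm t)) (mul_add _ H _ _ _)).trans
      ?_)).trans (map_add (E'.ε V.1 T p) _ _)
    exact (congrArg (fun φ => Sheaf.H.map φ p ((e₁ V).symm t)) (Functor.map_add _)).trans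
      (Sheaf.H.map_add_apply _ _ _)
  have hls : ∀ (V : S'.affineOpens) (c : Γ(S', V.1)) n t, b V (c • n) t = c • b V n t := fun V c n t => by
    refine (congrArg (fun s => E'.ε V.1 T p (CohPull.mapH (mul _ H (f' ⁻¹ᵁ V.1) s) p ((e₁ V).symm t)))
      (M2.pullSec_smul f' G c n)).trans ?_
    refine (congrArg (fun φ => E'.ε V.1 T p (CohPull.mapH φ p ((e₁ V).symm t))) (mul_smul _ H _ _ _)).trans ?_
    refine (congrArg (E'.ε V.1 T p) ?_).trans (ε_smul E' c (scal (f' ⁻¹ᵁ V.1) (f'.app V.1 c)) rfl p T _)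
    exact (congrArg (fun φ => Sheaf.H.map φ p ((e₁ V).symm t)) (Functor.map_comp _ _ _)).trans
      (Sheaf.H.map_comp_apply _ _ _)
  have hrs : ∀ (V : S'.affineOpens) (c : Γ(S', V.1)) n t, b V n (c • t) = c • b V n t := fun V c n t => by
    obtain ⟨x, rfl⟩ := (bijective_ε_affine E' H V.2 p).2 t
    rw [← hls, ← ε_smul E' c (scal (f' ⁻¹ᵁ V.1) (f'.app V.1 c)) rfl p H x, hb, hb]
    refine congrArg (E'.ε V.1 T p) ((Sheaf.H.map_comp_apply _ _ x).symm.trans
      (congrArg (fun φ => Sheaf.H.map φ p x) ?_))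
    refine (Functor.map_comp _ _ _).symm.trans (congrArg _ ((smul_mul _ H _ _ _).trans ?_))
    exact congrArg (mul _ H _) (M2.pullSec_smul f' G c n).symm
  let lin : ∀ V : S'.affineOpens, Γ(G, V.1) ⊗[Γ(S', V.1)] Γ((Coh.Rpush f' p).obj H, V.1) →ₗ[Γ(S', V.1)]
      Γ((Coh.Rpush f' p).obj T, V.1) := fun V =>
    TensorProduct.lift (LinearMap.mk₂ Γ(S', V.1) (b V) (hl V) (hls V) (hr V) (hrs V))
  let R' := (Coh.Rpush f' p).obj H
  haveI hR : Coh.IsQCoh R' := CohFound.isQCoh_rpush f' hH p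
  let L : ∀ V : S'.affineOpens, Γ(G, V.1) ⊗[Γ(S', V.1)] Γ(R', V.1) ≃ₗ[Γ(S', V.1)]
      Γ(CohB1.tensorMod G R', V.1) := fun V =>
    LinearEquiv.ofBijective (secTensor G R') (bijective_secTensor G R' hG hR V.2)
  let m : ∀ V : S'.affineOpens, Γ(CohB1.tensorMod G R', V.1) →ₗ[Γ(S', V.1)] Γ((Coh.Rpush f' p).obj T, V.1) :=
    fun V => (lin V).comp (L V).symm.toLinearMap
  have hm : ∀ (V : S'.affineOpens) n t, m V (M2.tsec G R' n t) = b V n t := fun V n t => by
    rw [← secTensor_tmul]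
    exact (congrArg (lin V) ((L V).symm_apply_apply _)).trans (TensorProduct.lift.tmul _ _)
  refine (KoszShH13.exists_glue KoszShH13.isAffBasis_top (fun V _ => (m V).toAddMonoidHom)
    (fun V _ c t => (m V).map_smul c t) (fun U _ V _ h t => ?_)).elim fun ν hν =>
      ⟨ν, fun V hV n x => (hν ⟨V, hV⟩ trivial _).trans ((hm ⟨V, hV⟩ n _).trans (hb ⟨V, hV⟩ n x))⟩
  · obtain ⟨z, rfl⟩ := (L U).surjective t
    induction z using TensorProduct.induction_on with
    | zero => simp only [map_zero]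
    | add a c ha hc => simp only [map_add, ha, hc]
    | tmul n t =>
      obtain ⟨x, rfl⟩ := (bijective_ε_affine E' H U.2 p).2 t
      show M1.mres _ h (m U (secTensor G R' (n ⊗ₜ _))) = m V (M1.mres _ h (secTensor G R' (n ⊗ₜ _)))
      rw [secTensor_tmul, hm, hb]
      refine (ε_resLE E' h p T _).trans ?_
      refine Eq.trans ?_ (congrArg (m V) (M2.res_tsec h n _)).symm
      refine Eq.trans ?_ ((hm V _ _).trans ((congrArg (b V _) (ε_resLE E' h p H x)).trans (hb V _ _))).symm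
      refine congrArg (E'.ε V.1 T p) ((resLE_mul _ H _ _ p x).trans ?_)
      exact congrArg (fun s => CohPull.mapH (mul _ H (f' ⁻¹ᵁ V.1) s) p (CohPull.resLE H (f'.preimage_mono h) p x))
        (M1.app_mres ((Scheme.Modules.pullbackPushforwardAdjunction f').unit.app G) h n).symm

end Groth.Agent.BCTen1
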