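import Groth.Agent.Lib.BCTen1.Phi
import Groth.Agent.Lib.BCTen1.Nu
import Groth.Agent.Lib.CBC10.SectAff
import Groth.Agent.Lib.CBC10.TensorSec
import Groth.Agent.Lib.KoszShH13.Glue

/-!
# The base change map with coefficients
-/

set_option autoImplicit false
set_option linter.style.haveILetI false
set_option linter.unusedSectionVars false
set_option maxHeartbeats 1000000

universe u

open CategoryTheory CategoryTheory.Limits AlgebraicGeometry TopologicalSpace Opposite Groth.Agent.ModLimH13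
  TensorProduct

noncomputable section

namespace Groth.Agent.BCTen1

open Groth.Agent.CBC10

open CohFound in
attribute [-instance] abelianAb hasExtAb isGrothendieckAbelianAb enoughInjectivesAb

variable {X S X' S' : Scheme.{u}} {f : X ⟶ S} {g : S' ⟶ S} {f' : X' ⟶ S'} {g' : X' ⟶ X}
  (w : g' ≫ f = f' ≫ g) [HasInjectiveResolutions X.Modules] [HasInjectiveResolutions X'.Modules]
  [QuasiCompact f] [QuasiSeparated f] [QuasiCompact f'] [QuasiSeparated f']
  {Δ : RDer.DerivedLES (Scheme.Modules.pushforward f)} {Δ' : RDer.DerivedLES (Scheme.Modules.pushforward f')}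
  (E : CohCmp.SectCmp f Δ) (E' : CohCmp.SectCmp f' Δ') (F : X.Modules) [Coh.IsQCoh F] (p : ℕ)

include w in
/-- The base change map with coefficients. -/
theorem exists_psi (G : S'.Modules) [Coh.IsQCoh G] :
    ∃ ψ : CohB1.tensorMod G ((Scheme.Modules.pullback g).obj ((Coh.Rpush f p).obj F)) ⟶
        (Coh.Rpush f' p).obj (CohB1.tensorMod ((Scheme.Modules.pullback f').obj G)
          ((Scheme.Modules.pullback g').obj F)),
      ∀ (U : S.Opens), IsAffineOpen U → ∀ (V : S'.Opens), IsAffineOpen V → ∀ (eV : V ≤ g ⁻¹ᵁ U)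
        (e : f' ⁻¹ᵁ V ≤ g' ⁻¹ᵁ (f ⁻¹ᵁ U)) (n : Γ(G, V)) (x : Coh.HHon X F (f ⁻¹ᵁ U) p),
        ψ.app V (M2.tsec G _ n (res' g ((Coh.Rpush f p).obj F) eV (E.ε U F p x))) =
          E'.ε V _ p (CohPull.mapH (mul _ _ (f' ⁻¹ᵁ V) (M2.pullSec f' G n)) p
            (CohPull.pullOn g' (f ⁻¹ᵁ U) (f' ⁻¹ᵁ V) e F p x)) := by
  obtain ⟨φ, hφ⟩ := exists_phi w E E' F p
  haveI : Coh.IsQCoh ((Scheme.Modules.pullback g').obj F) := M1.isQCoh_pullback g' ‹_›
  obtain ⟨ν, hν⟩ := exists_nu E' p G ((Scheme.Modules.pullback g').obj F)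
  let bc := ((Scheme.Modules.pullbackPushforwardAdjunction g).homEquiv _ _).symm φ
  refine ⟨M2.tensorMap (𝟙 G) bc ≫ ν, fun U hU V hV eV e n x => ?_⟩
  refine (congrArg (ν.app V) (M2.tensorMap_tsec (𝟙 G) bc n _)).trans (Eq.trans ?_ (hν V hV n _))
  refine congrArg (fun t => ν.app V (M2.tsec G _ n t)) ?_
  refine (M1.app_mres bc eV (M2.pullSec g _ (E.ε U F p x))).trans ?_
  refine (congrArg (M1.mres _ eV) (Eq.trans ?_ (hφ U hU x))).trans ?_
  · exact congrArg (fun ψ => ψ.app U (E.ε U F p x))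
      (((Scheme.Modules.pullbackPushforwardAdjunction g).homEquiv_unit _ _ _).symm.trans
        (Equiv.apply_symm_apply ((Scheme.Modules.pullbackPushforwardAdjunction g).homEquiv _ _) φ))
  unfold pullCls
  refine (ε_resLE E' eV p _ _).trans (congrArg (E'.ε V _ p) ?_)
  exact resLE_pullOn g' (f ⁻¹ᵁ U) _ _ F p x

end Groth.Agent.BCTen1
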