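import Groth.Agent.Lib.BCTen1.SectExist
import Groth.Agent.Lib.BCTen1.Maps
import Groth.Agent.Lib.BCTen1.Bij
import Groth.Agent.Lib.CBC10.GenFlat

/-!
# Base change of higher direct images with flat coefficients
-/

set_option autoImplicit false
set_option linter.style.haveILetI false
set_option linter.unusedSectionVars false
set_option maxHeartbeats 1000000

universe u

open CategoryTheory CategoryTheory.Limits AlgebraicGeometry TopologicalSpace Opposite Groth.Agent.ModLimH13
  TensorProduct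

noncomputable section

namespace Groth.Agent.BCTen1

open Groth.Agent.CBC10

open CohFound in
attribute [-instance] abelianAb hasExtAb isGrothendieckAbelianAb enoughInjectivesAb

/-- `G ⊗ g^* R^q f_* F ≅ R^q f'_* (f'^* G ⊗ g'^* F)` for `G` flat over the base. -/
theorem nonempty_iso {X S X' S' : Scheme.{u}} {f : X ⟶ S} {g : S' ⟶ S} {f' : X' ⟶ S'} {g' : X' ⟶ X}
    (h : IsPullback g' f' f g) [QuasiCompact f] [QuasiSeparated f]
    [HasInjectiveResolutions X.Modules] [HasInjectiveResolutions X'.Modules]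
    (F : X.Modules) [hF : Coh.IsQCoh F] (G : S'.Modules) [hG : Coh.IsQCoh G] (hfl : FlatMod.IsFlatOver g G) (q : ℕ) :
    Nonempty (CohB1.tensorMod G ((Scheme.Modules.pullback g).obj ((Coh.Rpush f q).obj F)) ≅
      (Coh.Rpush f' q).obj (CohB1.tensorMod ((Scheme.Modules.pullback f').obj G)
        ((Scheme.Modules.pullback g').obj F))) := by
  haveI : QuasiCompact f' := MorphismProperty.of_isPullback h inferInstance
  haveI : QuasiSeparated f' := MorphismProperty.of_isPullback h inferInstance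
  obtain ⟨Δ, ⟨E⟩⟩ := exists_sectCmp f
  obtain ⟨Δ', ⟨E'⟩⟩ := exists_sectCmp f'
  obtain ⟨ψ, hψ⟩ := exists_psi h.w E E' F q G
  let R := (Coh.Rpush f q).obj F
  haveI hR : Coh.IsQCoh R := CohFound.isQCoh_rpush f hF q
  haveI hgR : Coh.IsQCoh ((Scheme.Modules.pullback g).obj R) := M1.isQCoh_pullback g hR
  haveI hT : Coh.IsQCoh (CohB1.tensorMod ((Scheme.Modules.pullback f').obj G)
      ((Scheme.Modules.pullback g').obj F)) :=
    M2.isQCoh_tensor (M1.isQCoh_pullback f' hG) (M1.isQCoh_pullback g' hF)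
  haveI : Coh.IsQCoh (CohB1.tensorMod G ((Scheme.Modules.pullback g).obj R)) := M2.isQCoh_tensor hG hgR
  haveI : Coh.IsQCoh ((Coh.Rpush f' q).obj (CohB1.tensorMod ((Scheme.Modules.pullback f').obj G)
      ((Scheme.Modules.pullback g').obj F))) := CohFound.isQCoh_rpush f' hT q
  suffices hψ' : IsIso ψ from ⟨@asIso _ _ _ _ ψ hψ'⟩
  refine isIso_of_affine_cover ψ fun z => ?_
  obtain ⟨U, hU, hzU, -⟩ := Opens.isBasis_iff_nbhd.1 S.isBasis_affineOpens (U := ⊤) (x := g z) trivial
  obtain ⟨V, hV, hzV, eV⟩ := Opens.isBasis_iff_nbhd.1 S'.isBasis_affineOpens (U := g ⁻¹ᵁ U) (x := z) hzU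
  have e : f' ⁻¹ᵁ V ≤ g' ⁻¹ᵁ (f ⁻¹ᵁ U) := (f'.preimage_mono eV).trans (CohCmp.sqLE f g f' g' h.w U)
  refine ⟨V, hV, hzV, ?_⟩
  letI := overU f hU
  letI := Module.compHom Γ(G, V) (g.appLE U V eV).hom
  letI := (g.appLE U V eV).hom.toAlgebra
  haveI : IsScalarTower Γ(S, U) Γ(S', V) Γ(G, V) := IsScalarTower.of_algebraMap_smul fun _ _ => rfl
  obtain ⟨Φ, hΦ, hΦt⟩ := exists_pairing h F G hfl hU hV eV e q
  let e₀ : Coh.HH (f ⁻¹ᵁ U).toScheme (resU f F U) q ≃ₗ[Γ(S, U)] Γ(R, U) :=
    (AddEquiv.ofBijective (E.ε U F q) (bijective_ε_affine E F hU q)).toLinearEquiv (R := Γ(S, U))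
      fun c x => ε_smul E c _ (toGlobal_overU f hU c) q F x
  obtain ⟨P, hP⟩ := exists_pullEquiv g R eV hU hV
  let d₁ := e₀.lTensor Γ(G, V)
  let d₂ := (AlgebraTensorModule.cancelBaseChange Γ(S, U) Γ(S', V) Γ(S', V) Γ(G, V) Γ(R, U)).symm
  let d₃ := P.lTensor Γ(G, V)
  let d : Γ(G, V) ⊗[Γ(S, U)] Coh.HH (f ⁻¹ᵁ U).toScheme (resU f F U) q →
      Γ(CohB1.tensorMod G ((Scheme.Modules.pullback g).obj R), V) :=
    fun z => secTensor G ((Scheme.Modules.pullback g).obj R) (d₃ (d₂ (d₁ z)))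
  have hd : Function.Bijective d :=
    (bijective_secTensor G _ hG hgR hV).comp (d₃.bijective.comp (d₂.bijective.comp d₁.bijective))
  have hε := bijective_ε_affine E' (CohB1.tensorMod ((Scheme.Modules.pullback f').obj G)
      ((Scheme.Modules.pullback g').obj F)) hV q
  have key : ∀ z, ψ.app V (d z) = E'.ε V _ q (Φ z) := fun z => by
    induction z using TensorProduct.induction_on with
    | zero => simp only [d, map_zero]
    | add a b ha hb => simp only [d, map_add] at ha hb ⊢; rw [ha, hb]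
    | tmul n x =>
      refine Eq.trans ?_ ((hψ U hU V hV eV e n x).trans (congrArg (E'.ε V _ q) (hΦt n x).symm))
      refine congrArg (ψ.app V) ?_
      simp only [d, d₁, d₂, d₃, LinearEquiv.lTensor_tmul, AlgebraTensorModule.cancelBaseChange_symm_tmul,
        secTensor_tmul, hP, one_smul]
      rfl
  exact (Function.Bijective.of_comp_iff _ hd).1 <| by
    rw [show (ψ.app V : Γ(CohB1.tensorMod G ((Scheme.Modules.pullback g).obj R), V) → _) ∘ d =
      (E'.ε V _ q) ∘ Φ from funext key]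
    exact hε.comp hΦ

end Groth.Agent.BCTen1
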