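import Groth.Agent.Lib.BCTen1.Pull
import Groth.Agent.Lib.BCTen1.Alg
import Groth.Agent.Lib.FlatBC10.CoefGlobal
import Groth.Agent.Lib.CBC10.BcModel
import Groth.Agent.Lib.CBC10.TensorSec
import Groth.Agent.Lib.FlatH4.PullChart

/-!
# The pairing on sections over boxes of affine opens
-/

set_option autoImplicit false
set_option linter.style.haveILetI false
set_option linter.unusedSectionVars false
set_option maxHeartbeats 1000000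

universe u

open CategoryTheory CategoryTheory.Limits AlgebraicGeometry TopologicalSpace Opposite Groth.Agent.ModLimH13
  TensorProduct

noncomputable section

namespace Groth.Agent.BCTen1

open Groth.Agent.CBC10

open CohFound in
attribute [-instance] abelianAb hasExtAb isGrothendieckAbelianAb enoughInjectivesAb

variable {X S X' S' : Scheme.{u}} {f : X ⟶ S} {g : S' ⟶ S} {f' : X' ⟶ S'} {g' : X' ⟶ X}

lemma appLE_sq' (w : g' ≫ f = f' ≫ g) {U : S.Opens} {V : S'.Opens} (eV : V ≤ g ⁻¹ᵁ U)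
    (e : f' ⁻¹ᵁ V ≤ g' ⁻¹ᵁ (f ⁻¹ᵁ U)) (c : Γ(S, U)) :
    g'.appLE (f ⁻¹ᵁ U) (f' ⁻¹ᵁ V) e (f.app U c) = f'.app V (g.appLE U V eV c) := by
  have hc : f.app U ≫ g'.appLE (f ⁻¹ᵁ U) (f' ⁻¹ᵁ V) e = g.appLE U V eV ≫ f'.app V := by
    rw [Scheme.Hom.app_eq_appLE, Scheme.Hom.app_eq_appLE, Scheme.Hom.appLE_comp_appLE,
      Scheme.Hom.appLE_comp_appLE]
    simp only [w]
  exact ConcreteCategory.congr_hom hc c

variable {U : S.Opens} {V : S'.Opens} (e : f' ⁻¹ᵁ V ≤ g' ⁻¹ᵁ (f ⁻¹ᵁ U)) (F : X.Modules) (G : S'.Modules)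

/-- `F → g'_* (f'^* G ⊗ g'^* F)` given by a section of `G`. -/
def et (n : Γ(G, V)) : F.restrict (f ⁻¹ᵁ U).ι ⟶
    (Scheme.Modules.pushforward (g'.resLE (f ⁻¹ᵁ U) (f' ⁻¹ᵁ V) e)).obj
      ((CohB1.tensorMod ((Scheme.Modules.pullback f').obj G) ((Scheme.Modules.pullback g').obj F)).restrict
        (f' ⁻¹ᵁ V).ι) :=
  aOn g' (f ⁻¹ᵁ U) (f' ⁻¹ᵁ V) e F ≫
    (Scheme.Modules.pushforward _).map (mul _ _ (f' ⁻¹ᵁ V) (M2.pullSec f' G n))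

lemma et_app (n : Γ(G, V)) (O : (f ⁻¹ᵁ U).toScheme.Opens) (s : Γ(F, (f ⁻¹ᵁ U).ι ''ᵁ O)) :
    (et e F G n).app O s = M2.tsec _ _
      (M1.mres _ (image_le (f' ⁻¹ᵁ V) ((g'.resLE (f ⁻¹ᵁ U) (f' ⁻¹ᵁ V) e) ⁻¹ᵁ O)) (M2.pullSec f' G n))
      (res' g' F (image_le_preimage_image g' (f ⁻¹ᵁ U) (f' ⁻¹ᵁ V) e O) s) := by
  let P := (Scheme.Modules.pullback f').obj G
  let Q := (Scheme.Modules.pullback g').obj F
  let O' := (g'.resLE (f ⁻¹ᵁ U) (f' ⁻¹ᵁ V) e) ⁻¹ᵁ O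
  refine Eq.trans ?_ (mul_app P Q (f' ⁻¹ᵁ V) (M2.pullSec f' G n) O'
    (res' g' F (image_le_preimage_image g' (f ⁻¹ᵁ U) (f' ⁻¹ᵁ V) e O) s))
  refine Eq.trans ?_ (congrArg ((mul P Q (f' ⁻¹ᵁ V) (M2.pullSec f' G n)).app O')
    (aOn_app g' (f ⁻¹ᵁ U) (f' ⁻¹ᵁ V) e F O s))
  rfl

lemma et_add (m n : Γ(G, V)) : et e F G (m + n) = et e F G m + et e F G n := by
  rw [et, et, et, M2.pullSec_add, mul_add, Functor.map_add, Preadditive.comp_add]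

lemma aOn_smul (a : Γ(X, f ⁻¹ᵁ U)) :
    Formal.smulModΓ (F.restrict (f ⁻¹ᵁ U).ι) (scal (f ⁻¹ᵁ U) a) ≫ aOn g' (f ⁻¹ᵁ U) (f' ⁻¹ᵁ V) e F =
      aOn g' (f ⁻¹ᵁ U) (f' ⁻¹ᵁ V) e F ≫ (Scheme.Modules.pushforward _).map
        (Formal.smulModΓ (((Scheme.Modules.pullback g').obj F).restrict (f' ⁻¹ᵁ V).ι)
          (scal (f' ⁻¹ᵁ V) (g'.appLE (f ⁻¹ᵁ U) (f' ⁻¹ᵁ V) e a))) := by
  apply Scheme.Modules.hom_ext
  intro O
  refine AddCommGrpCat.ext fun s => ?_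
  refine (congrArg ((aOn g' _ _ e F).app O) (smulModΓ_scal_app F _ a O (image_le _ O) s)).trans ?_
  refine (aOn_app g' _ _ e F O _).trans ?_
  refine Eq.trans ?_ (congrArg ((Formal.smulModΓ (((Scheme.Modules.pullback g').obj F).restrict (f' ⁻¹ᵁ V).ι)
    (scal (f' ⁻¹ᵁ V) (g'.appLE (f ⁻¹ᵁ U) (f' ⁻¹ᵁ V) e a))).app _) (aOn_app g' _ _ e F O s)).symm
  refine Eq.trans ?_ (smulModΓ_scal_app _ (f' ⁻¹ᵁ V) _ _ (image_le _ _) _).symm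
  refine (res'_smul g' F (image_le_preimage_image g' (f ⁻¹ᵁ U) (f' ⁻¹ᵁ V) e O) (M1.ores (image_le (f ⁻¹ᵁ U) O) a)
    (show Γ(F, (f ⁻¹ᵁ U).ι ''ᵁ O) from s)).trans ?_
  refine congrArg (fun c => c • res' g' F (image_le_preimage_image g' (f ⁻¹ᵁ U) (f' ⁻¹ᵁ V) e O) (show Γ(F, (f ⁻¹ᵁ U).ι ''ᵁ O) from s)) ?_
  simp only [M1.ores, ← ConcreteCategory.comp_apply]
  refine congrArg (fun k : Γ(X, f ⁻¹ᵁ U) ⟶
    Γ(X', (f' ⁻¹ᵁ V).ι ''ᵁ ((g'.resLE (f ⁻¹ᵁ U) (f' ⁻¹ᵁ V) e) ⁻¹ᵁ O)) => k a) ?_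
  simp [Scheme.Hom.appLE_map, Scheme.Hom.map_appLE]

lemma et_src (w : g' ≫ f = f' ≫ g) (eV : V ≤ g ⁻¹ᵁ U) (a : Γ(S, U)) (n : Γ(G, V)) :
    Formal.smulModΓ (F.restrict (f ⁻¹ᵁ U).ι) (scal (f ⁻¹ᵁ U) (f.app U a)) ≫ et e F G n =
      et e F G (g.appLE U V eV a • n) := by
  rw [et, et, ← Category.assoc, aOn_smul, Category.assoc, ← Functor.map_comp, smul_mul,
    M2.pullSec_smul, appLE_sq' w eV e a]

lemma et_tgt (b : Γ(S', V)) (n : Γ(G, V)) :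
    et e F G n ≫ (Scheme.Modules.pushforward _).map
        (Formal.smulModΓ ((CohB1.tensorMod ((Scheme.Modules.pullback f').obj G)
          ((Scheme.Modules.pullback g').obj F)).restrict (f' ⁻¹ᵁ V).ι) (scal (f' ⁻¹ᵁ V) (f'.app V b))) =
      et e F G (b • n) := by
  rw [et, et, Category.assoc, ← Functor.map_comp, M2.pullSec_smul, mul_smul]

/-- On boxes of affine opens, `G(V) ⊗ F(O)` gives the sections of `f'^* G ⊗ g'^* F`. -/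
theorem exists_secPair (h : IsPullback g' f' f g) [hF : Coh.IsQCoh F] [hG : Coh.IsQCoh G] (hU : IsAffineOpen U)
    (hV : IsAffineOpen V) (eV : V ≤ g ⁻¹ᵁ U) {O : (f ⁻¹ᵁ U).toScheme.Opens} (hO : IsAffineOpen O) :
    letI := Module.compHom Γ(G, V) (g.appLE U V eV).hom
    letI := Module.compHom Γ(F, (f ⁻¹ᵁ U).ι ''ᵁ O) (f.appLE U ((f ⁻¹ᵁ U).ι ''ᵁ O) (image_le _ O)).hom
    ∃ Φ : Γ(G, V) ⊗[Γ(S, U)] Γ(F, (f ⁻¹ᵁ U).ι ''ᵁ O) →+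
        Γ(CohB1.tensorMod ((Scheme.Modules.pullback f').obj G) ((Scheme.Modules.pullback g').obj F),
          (f' ⁻¹ᵁ V).ι ''ᵁ ((g'.resLE (f ⁻¹ᵁ U) (f' ⁻¹ᵁ V) e) ⁻¹ᵁ O)),
      Function.Bijective Φ ∧ ∀ n s, Φ (n ⊗ₜ s) = (et e F G n).app O s := by
  letI := overU f hU
  letI := overU f' hV
  let g₁ := g'.resLE (f ⁻¹ᵁ U) (f' ⁻¹ᵁ V) e
  haveI : IsAffineHom g₁ :=
    MorphismProperty.of_isPullback (isPullback_affine h hU hV eV e).flip inferInstance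
  let O₀ : X.Opens := (f ⁻¹ᵁ U).ι ''ᵁ O
  let O₁ : X'.Opens := (f' ⁻¹ᵁ V).ι ''ᵁ (g₁ ⁻¹ᵁ O)
  have hO₀ : IsAffineOpen O₀ := hO.image_of_isOpenImmersion _
  have hO₁ : IsAffineOpen O₁ := (hO.preimage g₁).image_of_isOpenImmersion _
  have eC : O₁ ≤ g' ⁻¹ᵁ O₀ := image_le_preimage_image g' _ _ e O
  have eB : O₁ ≤ f' ⁻¹ᵁ V := image_le _ _
  have hbox : O₁ = g' ⁻¹ᵁ O₀ ⊓ f' ⁻¹ᵁ V := by
    refine le_antisymm (le_inf eC eB) ?_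
    rintro x ⟨⟨y, hy, hyx⟩, hxV⟩
    refine ⟨⟨x, hxV⟩, ?_, rfl⟩
    have : g₁ ⟨x, hxV⟩ = y := (f ⁻¹ᵁ U).ι.isOpenEmbedding.injective
      ((congrArg (fun k : (f' ⁻¹ᵁ V).toScheme ⟶ X => k ⟨x, hxV⟩) (Scheme.Hom.resLE_comp_ι g' e)).trans hyx.symm)
    show g₁ ⟨x, hxV⟩ ∈ O
    rwa [this]
  have hp := FlatH4.isPushout_sections h eV (image_le _ O) hbox hU hV hO₀
  letI := (g.appLE U V eV).hom.toAlgebra
  letI := (f.appLE U O₀ (image_le _ O)).hom.toAlgebra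
  letI := (g'.appLE O₀ O₁ eC).hom.toAlgebra
  letI := (f'.appLE V O₁ eB).hom.toAlgebra
  letI : Algebra Γ(S, U) Γ(X', O₁) :=
    ((g'.appLE O₀ O₁ eC).hom.comp (f.appLE U O₀ (image_le _ O)).hom).toAlgebra
  haveI : IsScalarTower Γ(S, U) Γ(X, O₀) Γ(X', O₁) := IsScalarTower.of_algebraMap_eq fun _ => rfl
  haveI : IsScalarTower Γ(S, U) Γ(S', V) Γ(X', O₁) :=
    IsScalarTower.of_algebraMap_eq fun r => ConcreteCategory.congr_hom hp.w r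
  haveI : Algebra.IsPushout Γ(S, U) Γ(X, O₀) Γ(S', V) Γ(X', O₁) := CommRingCat.isPushout_iff_isPushout.mp hp
  haveI : Algebra.IsPushout Γ(S, U) Γ(S', V) Γ(X, O₀) Γ(X', O₁) := Algebra.IsPushout.symm inferInstance
  letI := Module.compHom Γ(G, V) (g.appLE U V eV).hom
  letI := Module.compHom Γ(F, O₀) (f.appLE U O₀ (image_le _ O)).hom
  haveI : IsScalarTower Γ(S, U) Γ(S', V) Γ(G, V) := IsScalarTower.of_algebraMap_smul fun _ _ => rfl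
  haveI : IsScalarTower Γ(S, U) Γ(X, O₀) Γ(F, O₀) := IsScalarTower.of_algebraMap_smul fun _ _ => rfl
  let P := (Scheme.Modules.pullback f').obj G
  let Q := (Scheme.Modules.pullback g').obj F
  letI : Module Γ(S', V) Γ(P, O₁) := Module.compHom _ (f'.appLE V O₁ eB).hom
  haveI : IsScalarTower Γ(S', V) Γ(X', O₁) Γ(P, O₁) := IsScalarTower.of_algebraMap_smul fun _ _ => rfl
  letI : Module Γ(X, O₀) Γ(Q, O₁) := Module.compHom _ (g'.appLE O₀ O₁ eC).hom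
  haveI : IsScalarTower Γ(X, O₀) Γ(X', O₁) Γ(Q, O₁) := IsScalarTower.of_algebraMap_smul fun _ _ => rfl
  let ηN : Γ(G, V) →ₗ[Γ(S', V)] Γ(P, O₁) :=
    { toFun := res' f' G eB, map_add' := res'_add f' G eB, map_smul' := res'_smul f' G eB }
  let ηM : Γ(F, O₀) →ₗ[Γ(X, O₀)] Γ(Q, O₁) :=
    { toFun := res' g' F eC, map_add' := res'_add g' F eC, map_smul' := res'_smul g' F eC }
  have hN : IsBaseChange Γ(X', O₁) ηN := by
    obtain ⟨Φ, hΦ⟩ := exists_pullEquiv f' G eB hV hO₁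
    exact IsBaseChange.of_equiv Φ fun x => (hΦ 1 x).trans (one_smul _ _)
  have hM : IsBaseChange Γ(X', O₁) ηM := by
    obtain ⟨Φ, hΦ⟩ := exists_pullEquiv g' F eC hO₀ hO₁
    exact IsBaseChange.of_equiv Φ fun x => (hΦ 1 x).trans (one_smul _ _)
  obtain ⟨Φ, hΦ⟩ := exists_pairEquiv Γ(S, U) Γ(S', V) Γ(X, O₀) Γ(X', O₁) hN hM
  refine ⟨(secTensor P Q (U := O₁)).toAddMonoidHom.comp Φ.toAddMonoidHom,
    (bijective_secTensor P Q (M1.isQCoh_pullback f' hG) (M1.isQCoh_pullback g' hF) hO₁).comp Φ.bijective,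
    fun n s => ?_⟩
  refine (congrArg (secTensor P Q) (hΦ n s)).trans ((secTensor_tmul P Q _ _).trans ?_)
  exact (et_app e F G n O s).symm

end Groth.Agent.BCTen1
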