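import Groth.Agent.Lib.BCTen1.Pull
import Groth.Agent.Lib.CBC10.SectAff
import Groth.Agent.Lib.CBC10.TensorSec
import Groth.Agent.Lib.KoszShH13.Glue

/-!
# The base change map in adjoint form
-/

set_option autoImplicit false
set_option linter.style.haveILetI false
set_option linter.unusedSectionVars false
set_option maxHeartbeats 1000000

universe u

open CategoryTheory CategoryTheory.Limits AlgebraicGeometry TopologicalSpace Opposite Groth.Agent.ModLimH13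
  TensorProduct

noncomputable section

namespace Groth.Agent.BCTen1

open Groth.Agent.CBC10

open CohFound in
attribute [-instance] abelianAb hasExtAb isGrothendieckAbelianAb enoughInjectivesAb

variable {X S X' S' : Scheme.{u}} {f : X ⟶ S} {g : S' ⟶ S} {f' : X' ⟶ S'} {g' : X' ⟶ X}
  (w : g' ≫ f = f' ≫ g) [HasInjectiveResolutions X.Modules] [HasInjectiveResolutions X'.Modules]
  [QuasiCompact f] [QuasiSeparated f] [QuasiCompact f'] [QuasiSeparated f']
  {Δ : RDer.DerivedLES (Scheme.Modules.pushforward f)} {Δ' : RDer.DerivedLES (Scheme.Modules.pushforward f')}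
  (E : CohCmp.SectCmp f Δ) (E' : CohCmp.SectCmp f' Δ') (F : X.Modules) [Coh.IsQCoh F] (p : ℕ)

include w in
lemma appLE_sq {U : S.Opens} {V : S'.Opens} (eV : V ≤ g ⁻¹ᵁ U) (e : f' ⁻¹ᵁ V ≤ g' ⁻¹ᵁ (f ⁻¹ᵁ U)) (c : Γ(S, U)) :
    g'.appLE (f ⁻¹ᵁ U) (f' ⁻¹ᵁ V) e (f.app U c) = f'.app V (g.appLE U V eV c) := by
  have hc : f.app U ≫ g'.appLE (f ⁻¹ᵁ U) (f' ⁻¹ᵁ V) e = g.appLE U V eV ≫ f'.app V := by
    rw [Scheme.Hom.app_eq_appLE, Scheme.Hom.app_eq_appLE, Scheme.Hom.appLE_comp_appLE,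
      Scheme.Hom.appLE_comp_appLE]
    simp only [w]
  exact ConcreteCategory.congr_hom hc c

/-- A class downstairs, pulled back and compared. -/
def pullCls (U : S.Opens) : Coh.HHon X F (f ⁻¹ᵁ U) p →+
    Γ((Coh.Rpush f' p).obj ((Scheme.Modules.pullback g').obj F), g ⁻¹ᵁ U) :=
  (E'.ε (g ⁻¹ᵁ U) ((Scheme.Modules.pullback g').obj F) p).comp
    (CohPull.pullOn g' (f ⁻¹ᵁ U) (f' ⁻¹ᵁ (g ⁻¹ᵁ U)) (CohCmp.sqLE f g f' g' w U) F p)

lemma pullCls_smul (U : S.Opens) (c : Γ(S, U)) (x : Coh.HHon X F (f ⁻¹ᵁ U) p) :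
    pullCls w E' F p U
        (CohPull.mapH (Formal.smulModΓ (F.restrict (f ⁻¹ᵁ U).ι) (scal (f ⁻¹ᵁ U) (f.app U c))) p x) =
      g.app U c • pullCls w E' F p U x := by
  refine (congrArg (E'.ε (g ⁻¹ᵁ U) _ p) (pullOn_smul g' _ _ (CohCmp.sqLE f g f' g' w U) F _ p x)).trans ?_
  refine ε_smul E' (g.app U c) _ ?_ p _ _
  refine congrArg (X'.presheaf.map _) ((appLE_sq w le_rfl _ c).trans ?_)
  exact congrArg (f'.app (g ⁻¹ᵁ U)) (congrArg (fun k : Γ(S, U) ⟶ _ => k c) g.app_eq_appLE.symm)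

lemma pullCls_res {U V : S.Opens} (h : V ≤ U) (x : Coh.HHon X F (f ⁻¹ᵁ U) p) :
    M1.mres ((Coh.Rpush f' p).obj ((Scheme.Modules.pullback g').obj F)) (g.preimage_mono h) (pullCls w E' F p U x) =
      pullCls w E' F p V (CohPull.resLE F (f.preimage_mono h) p x) :=
  (ε_resLE E' (g.preimage_mono h) p _ _).trans (congrArg (E'.ε (g ⁻¹ᵁ V) _ p)
    ((resLE_pullOn g' (f ⁻¹ᵁ U) _ _ F p x).trans
      (pullOn_resLE g' (f.preimage_mono h) _ (CohCmp.sqLE f g f' g' w V) F p x).symm))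

/-- The base change map in adjoint form exists. -/
theorem exists_phi : ∃ φ : (Coh.Rpush f p).obj F ⟶
      (Scheme.Modules.pushforward g).obj ((Coh.Rpush f' p).obj ((Scheme.Modules.pullback g').obj F)),
    ∀ (U : S.Opens), IsAffineOpen U → ∀ x : Coh.HHon X F (f ⁻¹ᵁ U) p,
      φ.app U (E.ε U F p x) = pullCls w E' F p U x := by
  let R' := (Coh.Rpush f' p).obj ((Scheme.Modules.pullback g').obj F)
  let e₀ : ∀ U : S.affineOpens, Coh.HHon X F (f ⁻¹ᵁ U.1) p ≃+ Γ((Coh.Rpush f p).obj F, U.1) := fun U =>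
    AddEquiv.ofBijective (E.ε U.1 F p) (bijective_ε_affine E F U.2 p)
  let m : ∀ U : S.affineOpens, Γ((Coh.Rpush f p).obj F, U.1) →+ Γ((Scheme.Modules.pushforward g).obj R', U.1) :=
    fun U => (pullCls w E' F p U.1).comp (e₀ U).symm.toAddMonoidHom
  have hm : ∀ (U : S.affineOpens) x, m U (E.ε U.1 F p x) = pullCls w E' F p U.1 x := fun U x =>
    congrArg (pullCls w E' F p U.1) ((e₀ U).symm_apply_apply x)
  refine (KoszShH13.exists_glue KoszShH13.isAffBasis_top (fun U _ => m U) (fun U _ c t => ?_)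
    (fun U _ V _ h t => ?_)).elim fun φ hφ => ⟨φ, fun U hU x => (hφ ⟨U, hU⟩ trivial _).trans (hm ⟨U, hU⟩ x)⟩
  · obtain ⟨x, rfl⟩ := (bijective_ε_affine E F U.2 p).2 t
    refine (congrArg (m U) (ε_smul E c (scal (f ⁻¹ᵁ U.1) (f.app U.1 c)) rfl p F x).symm).trans ?_
    refine (hm U _).trans ((pullCls_smul w E' F p U.1 c x).trans ?_)
    exact (congrArg (fun z : Γ(R', g ⁻¹ᵁ U.1) => g.app U.1 c • z) (hm U x).symm).trans rfl
  · obtain ⟨x, rfl⟩ := (bijective_ε_affine E F U.2 p).2 t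
    refine Eq.trans ?_ (congrArg (m V) (ε_resLE E h p F x)).symm
    exact ((congrArg (M1.mres R' (g.preimage_mono h)) (hm U x)).trans (pullCls_res w E' F p h x)).trans
      (hm V _).symm

end Groth.Agent.BCTen1
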