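import Groth.Agent.Lib.CBC10.PullComp
import Groth.Agent.Lib.CBC10.SectSmul
import Groth.Agent.Lib.TensorMod.Hom

/-!
# Pullback of classes and multiplication by sections
-/

set_option autoImplicit false
set_option linter.style.haveILetI false
set_option linter.unusedSectionVars false
set_option maxHeartbeats 1000000

universe u

open CategoryTheory AlgebraicGeometry TopologicalSpace Opposite Groth.Agent.ModLimH13

noncomputable section

namespace Groth.Agent.BCTen1

open Groth.Agent.CBC10

open CohFound in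
attribute [-instance] abelianAb hasExtAb isGrothendieckAbelianAb enoughInjectivesAb

variable {X Y : Scheme.{u}}

/-- A function on an open, as a global function of the open subscheme. -/
abbrev scal (U : X.Opens) (a : Γ(X, U)) : Coh.Γtop U.toScheme :=
  X.presheaf.map (eqToHom U.ι_image_top).op a

/-- Multiplication by it, on sections. -/
lemma smulModΓ_scal_app (F : X.Modules) (U : X.Opens) (a : Γ(X, U)) (O : U.toScheme.Opens)
    (h : U.ι ''ᵁ O ≤ U) (t : Γ(F, U.ι ''ᵁ O)) :
    (Formal.smulModΓ (F.restrict U.ι) (scal U a)).app O t = M1.ores h a • t := by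
  refine (KLin.smulModΓ_app_apply (F.restrict U.ι) _ O _).trans ?_
  change ((U.ι.appIso O).inv ((U.toScheme.presheaf.map (homOfLE (le_top : O ≤ (⊤ : U.toScheme.Opens))).op)
    (X.presheaf.map (eqToHom U.ι_image_top).op a)) : Γ(X, U.ι ''ᵁ O)) • t = _
  refine congrArg (fun c : Γ(X, U.ι ''ᵁ O) => c • t) ?_
  rw [Scheme.Opens.ι_appIso]
  exact (ConcreteCategory.comp_apply _ _ a).symm.trans
    (congrArg (fun k => X.presheaf.map k a) (Subsingleton.elim _ _) |> fun e =>
      (ConcreteCategory.congr_hom (X.presheaf.map_comp _ _).symm a).trans e)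

lemma image_le (U : X.Opens) (O : U.toScheme.Opens) : U.ι ''ᵁ O ≤ U :=
  (U.ι.image_mono le_top).trans U.ι_image_top.le

/-- Pullback of classes is semilinear. -/
theorem pullOn_smul (g : X ⟶ Y) (U : Y.Opens) (U' : X.Opens) (e : U' ≤ g ⁻¹ᵁ U) (F : Y.Modules) (a : Γ(Y, U))
    (p : ℕ) (x : Coh.HHon Y F U p) :
    CohPull.pullOn g U U' e F p (CohPull.mapH (Formal.smulModΓ (F.restrict U.ι) (scal U a)) p x) =
      CohPull.mapH (Formal.smulModΓ (((Scheme.Modules.pullback g).obj F).restrict U'.ι)
        (scal U' (g.appLE U U' e a))) p (CohPull.pullOn g U U' e F p x) := by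
  rw [pullOn_eq, pullOn_eq, mapH_pullF]
  refine (pullF_map_left _ _ _ p x).trans (congrArg (fun t => pullF (g.resLE U U' e).base t p x) ?_)
  refine ((SheafOfModules.toSheaf _).map_comp _ _).symm.trans (congrArg (SheafOfModules.toSheaf _).map ?_)
  apply Scheme.Modules.hom_ext
  intro W
  refine AddCommGrpCat.ext fun s => ?_
  refine (congrArg ((aOn g U U' e F).app W) (smulModΓ_scal_app F U a W (image_le U W) s)).trans ?_
  refine (aOn_app g U U' e F W _).trans ?_
  refine Eq.trans ?_ (congrArg ((Formal.smulModΓ (((Scheme.Modules.pullback g).obj F).restrict U'.ι)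
    (scal U' (g.appLE U U' e a))).app ((g.resLE U U' e) ⁻¹ᵁ W)) (aOn_app g U U' e F W s)).symm
  refine Eq.trans ?_ (smulModΓ_scal_app _ U' _ _ (image_le U' _) _).symm
  rw [res'_smul]
  refine congrArg (fun c => c • res' g F (image_le_preimage_image g U U' e W) s) ?_
  simp only [M1.ores, ← ConcreteCategory.comp_apply]
  refine congrArg (fun k : Γ(Y, U) ⟶ Γ(X, U'.ι ''ᵁ ((g.resLE U U' e) ⁻¹ᵁ W)) => k a) ?_
  simp [Scheme.Hom.appLE_map, Scheme.Hom.map_appLE]

/-- Pullback after restriction. -/
theorem pullOn_resLE (g : X ⟶ Y) {U U₂ : Y.Opens} (h : U₂ ≤ U) (U' : X.Opens) (e : U' ≤ g ⁻¹ᵁ U₂)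
    (F : Y.Modules) (p : ℕ) (x : Coh.HHon Y F U p) :
    CohPull.pullOn g U₂ U' e F p (CohPull.resLE F h p x) =
      CohPull.pullOn g U U' (e.trans (g.preimage_mono h)) F p x := by
  rw [pullOn_eq, pullOn_eq, resLE_eq]
  refine pullF_comp_mod _ _ ?_ (aRes F h) (aOn g U₂ U' e F) (aOn g U U' (e.trans (g.preimage_mono h)) F) ?_ p x
  · rw [← cancel_mono U.ι]
    simp
  · intro W V hV h₁ s
    refine (aOn_app g U U' (e.trans (g.preimage_mono h)) F W s).trans ?_
    refine Eq.trans ?_ (congrArg (M1.mres (((Scheme.Modules.pullback g).obj F).restrict U'.ι) h₁)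
      ((congrArg ((aOn g U₂ U' e F).app _) (aRes_app F h W s)).trans
        ((aOn_app g U₂ U' e F _ _).trans (res'_mres g F (image_le_image h W) _ s)))).symm
    exact (mres_res' g F _ (Scheme.Hom.image_mono U'.ι h₁) s).symm

variable (P H : X.Modules)

/-- Multiplication with a section, into the tensor product. -/
def mulAb (U : X.Opens) (s : Γ(P, U)) :
    (H.restrict U.ι).presheaf ⟶ ((CohB1.tensorMod P H).restrict U.ι).presheaf where
  app O := AddCommGrpCat.ofHom (AddMonoidHom.mk'
    (fun t : Γ(H, U.ι ''ᵁ O.unop) => (M2.tsec P H (M1.mres P (image_le U O.unop) s) t :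
      Γ(CohB1.tensorMod P H, U.ι ''ᵁ O.unop)))
    fun (t t' : Γ(H, U.ι ''ᵁ O.unop)) => M2.tsec_add_right _ t t')
  naturality O O' i := by
    refine AddCommGrpCat.ext fun t => ?_
    refine Eq.trans ?_ (M2.res_tsec (U.ι.image_mono i.unop.le) _ (show Γ(H, U.ι ''ᵁ O.unop) from t)).symm
    exact congrArg (fun v => M2.tsec P H v (M1.mres H (U.ι.image_mono i.unop.le) t)) (M1.mres_mres P _ _ s).symm

/-- Multiplication with a section. -/
def mul (U : X.Opens) (s : Γ(P, U)) : H.restrict U.ι ⟶ (CohB1.tensorMod P H).restrict U.ι :=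
  ⟨PresheafOfModules.homMk (mulAb P H U s) fun O r t =>
    M2.tsec_smul_right ((U.ι.appIso O.unop).inv r) (M1.mres P (image_le U O.unop) s) t⟩

lemma mul_app (U : X.Opens) (s : Γ(P, U)) (O : U.toScheme.Opens) (t : Γ(H, U.ι ''ᵁ O)) :
    (mul P H U s).app O t = M2.tsec P H (M1.mres P (image_le U O) s) t := rfl

lemma mul_add (U : X.Opens) (s s' : Γ(P, U)) : mul P H U (s + s') = mul P H U s + mul P H U s' := by
  apply Scheme.Modules.hom_ext
  intro O
  refine AddCommGrpCat.ext fun t => ?_
  change M2.tsec P H (M1.mres P (image_le U O) (s + s')) t =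
    M2.tsec P H (M1.mres P (image_le U O) s) t + M2.tsec P H (M1.mres P (image_le U O) s') t
  rw [map_add]
  exact M2.tsec_add_left _ _ _

lemma mul_smul (U : X.Opens) (a : Γ(X, U)) (s : Γ(P, U)) :
    mul P H U (a • s) = mul P H U s ≫ Formal.smulModΓ ((CohB1.tensorMod P H).restrict U.ι) (scal U a) := by
  apply Scheme.Modules.hom_ext
  intro O
  refine AddCommGrpCat.ext fun t => ?_
  refine Eq.trans ?_ (smulModΓ_scal_app _ U a O (image_le U O) _).symm
  change M2.tsec P H (M1.mres P (image_le U O) (a • s)) t = _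
  rw [M1.mres_smul]
  exact M2.tsec_smul_left _ _ _

lemma smul_mul (U : X.Opens) (a : Γ(X, U)) (s : Γ(P, U)) :
    Formal.smulModΓ (H.restrict U.ι) (scal U a) ≫ mul P H U s = mul P H U (a • s) := by
  apply Scheme.Modules.hom_ext
  intro O
  refine AddCommGrpCat.ext fun t => ?_
  refine (congrArg ((mul P H U s).app O) (smulModΓ_scal_app H U a O (image_le U O) t)).trans ?_
  refine (mul_app P H U s O _).trans ((M2.tsec_smul_right _ _ _).trans ((M2.tsec_smul_left _ _ _).symm.trans ?_))
  change _ = M2.tsec P H (M1.mres P (image_le U O) (a • s)) t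
  rw [M1.mres_smul]

/-- Restriction commutes with multiplication. -/
theorem resLE_mul {U U' : X.Opens} (h : U' ≤ U) (s : Γ(P, U)) (p : ℕ) (x : Coh.HHon X H U p) :
    CohPull.resLE (CohB1.tensorMod P H) h p (CohPull.mapH (mul P H U s) p x) =
      CohPull.mapH (mul P H U' (M1.mres P h s)) p (CohPull.resLE H h p x) := by
  refine (resLE_eq (CohB1.tensorMod P H) h p _).trans ?_
  refine Eq.trans ?_ (congrArg (CohPull.mapH (mul P H U' (M1.mres P h s)) p) (resLE_eq H h p x)).symm
  refine Eq.trans ?_ (mapH_pullF _ (aRes H h) (mul P H U' (M1.mres P h s)) p x).symm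
  refine (pullF_map_left _ _ (abMap _ (aRes (CohB1.tensorMod P H) h)) p x).trans
    (congrArg (fun t => pullF ((𝟙 X : X ⟶ X).resLE U U' (le_id h)).base t p x) ?_)
  refine ((SheafOfModules.toSheaf _).map_comp _ _).symm.trans (congrArg (SheafOfModules.toSheaf _).map ?_)
  apply Scheme.Modules.hom_ext
  intro W
  refine AddCommGrpCat.ext fun t => ?_
  refine (aRes_app (CohB1.tensorMod P H) h W ((mul P H U s).app W t)).trans ?_
  refine (congrArg (M1.mres _ (image_le_image h W)) (mul_app P H U s W t)).trans ?_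
  refine (M2.res_tsec (image_le_image h W) (M1.mres P (image_le U W) s) (show Γ(H, U.ι ''ᵁ W) from t)).trans ?_
  refine Eq.trans ?_ (congrArg ((mul P H U' (M1.mres P h s)).app _) (aRes_app H h W t)).symm
  refine Eq.trans ?_ (mul_app P H U' _ _ _).symm
  exact congrArg (fun v => M2.tsec P H v (M1.mres H (image_le_image h W) t))
    ((M1.mres_mres P _ _ s).trans (M1.mres_mres P _ _ s).symm)

end Groth.Agent.BCTen1
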