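import Groth.Agent.Lib.CBC10.SectBase
import Groth.Agent.Lib.RDerLES.Horseshoe

/-!
# The comparison `H^p(f⁻¹V, F) → Γ(V, R^p f_* F)` exists

It is built by effacement: cohomology over an open of an injective module vanishes in positive degrees.
-/

set_option autoImplicit false
set_option linter.style.haveILetI false
set_option linter.unusedSectionVars false
set_option maxHeartbeats 1000000

universe u

open CategoryTheory CategoryTheory.Limits AlgebraicGeometry TopologicalSpace Opposite Abelian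

noncomputable section

namespace Groth.Agent.BCTen1

open Groth.Agent.CBC10

open CohFound in
attribute [-instance] abelianAb hasExtAb isGrothendieckAbelianAb enoughInjectivesAb

variable {X Y : Scheme.{u}} (f : X ⟶ Y) [HasInjectiveResolutions X.Modules]
  (Δ : RDer.DerivedLES (Scheme.Modules.pushforward f)) (U : X.Opens) (W : Y.Opens)

/-- Connecting maps are natural in the sequence. -/
lemma extδ_natural {S T : ShortComplex X.Modules} (φ : S ⟶ T) (hA : (S.map (CohCmp.toAbOn X U)).ShortExact)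
    (hB : (T.map (CohCmp.toAbOn X U)).ShortExact) (p : ℕ) (x : Coh.HHon X S.X₃ U p) :
    CohPull.mapH ((Scheme.Modules.restrictFunctor U.ι).map φ.τ₁) (p + 1) (CohCmp.extδ hA p x) =
      CohCmp.extδ hB p (CohPull.mapH ((Scheme.Modules.restrictFunctor U.ι).map φ.τ₃) p x) := by
  refine (Ext.comp_assoc_of_third_deg_zero _ _ _ (rfl : p + 1 = p + 1)).trans
    (Eq.trans ?_ (Ext.comp_assoc_of_second_deg_zero _ _ _ (rfl : p + 1 = p + 1)).symm)
  exact congrArg (fun t => Ext.comp x t rfl)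
    (ShortComplex.ShortExact.extClass_naturality hA hB ((CohCmp.toAbOn X U).mapShortComplex.map φ))

/-- Naturality of a family in one degree. -/
def IsNat (p : ℕ) (α : ∀ F : X.Modules, Coh.HHon X F U p →+ Γ((Coh.Rpush f p).obj F, W)) : Prop :=
  ∀ {F G : X.Modules} (ψ : F ⟶ G) (x : Coh.HHon X F U p),
    α G (CohPull.mapH ((Scheme.Modules.restrictFunctor U.ι).map ψ) p x) = ((Coh.Rpush f p).map ψ).app W (α F x)

variable {f U W} in
/-- A natural family kills what dies in the connecting map. -/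
lemma δ_eq_zero {p : ℕ} {α : ∀ F : X.Modules, Coh.HHon X F U p →+ Γ((Coh.Rpush f p).obj F, W)}
    (hα : IsNat f U W p α) {S : ShortComplex X.Modules} (hS : S.ShortExact)
    (hA : (S.map (CohCmp.toAbOn X U)).ShortExact) (y : Coh.HHon X S.X₃ U p) (hy : CohCmp.extδ hA p y = 0) :
    (Δ.δ S hS p (p + 1) rfl).app W (α S.X₃ y) = 0 := by
  obtain ⟨w, rfl⟩ := Ext.covariant_sequence_exact₃ _ hA y rfl hy
  have h := congrArg (fun t => (Δ.δ S hS p (p + 1) rfl).app W t) (hα S.g w)
  refine h.trans ?_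
  exact (congrArg (fun φ => φ.app W (α S.X₂ w)) (Δ.comp_δ S hS p (p + 1) rfl)).trans rfl

variable {f U W} in
/-- The next degree. -/
theorem exists_succ {p : ℕ} {α : ∀ F : X.Modules, Coh.HHon X F U p →+ Γ((Coh.Rpush f p).obj F, W)}
    (hα : IsNat f U W p α) :
    ∃ β : ∀ F : X.Modules, Coh.HHon X F U (p + 1) →+ Γ((Coh.Rpush f (p + 1)).obj F, W),
      IsNat f U W (p + 1) β ∧ ∀ (S : ShortComplex X.Modules) (hS : S.ShortExact)
        (hA : (S.map (CohCmp.toAbOn X U)).ShortExact) (x : Coh.HHon X S.X₃ U p),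
        β S.X₁ (CohCmp.extδ hA p x) = (Δ.δ S hS p (p + 1) rfl).app W (α S.X₃ x) := by
  let d : ∀ F : X.Modules, Coh.HHon X (injM F).X₃ U p →+ Γ((Coh.Rpush f (p + 1)).obj F, W) := fun F =>
    ((Δ.δ _ (injM_shortExact F) p (p + 1) rfl).app W).hom.comp (α (injM F).X₃)
  let c : ∀ F : X.Modules, Coh.HHon X F U (p + 1) → Coh.HHon X (injM F).X₃ U p := fun F x =>
    (exists_extδ_eq F U p x).choose
  let e : ∀ F : X.Modules, Coh.HHon X (injM F).X₃ U p →+ Coh.HHon X F U (p + 1) := fun F =>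
    CohCmp.extδ (shortExact_toAbOn (injM_shortExact F) U) p
  have hc : ∀ F x, e F (c F x) = x := fun F x => (exists_extδ_eq F U p x).choose_spec
  have key : ∀ F y, d F (c F (e F y)) = d F y := fun F y => by
    refine sub_eq_zero.1 ((map_sub (d F) _ _).symm.trans ?_)
    refine δ_eq_zero Δ hα _ (shortExact_toAbOn (injM_shortExact F) U) _ ?_
    exact (map_sub (e F) (c F (e F y)) y).trans (sub_eq_zero.2 (hc F (e F y)))
  let β : ∀ F : X.Modules, Coh.HHon X F U (p + 1) →+ Γ((Coh.Rpush f (p + 1)).obj F, W) := fun F =>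
    AddMonoidHom.mk' (fun x => d F (c F x)) fun x y =>
      ((congrArg (fun t => d F (c F t)) ((congrArg₂ (· + ·) (hc F x) (hc F y)).symm.trans
        (map_add (e F) (c F x) (c F y)).symm)).trans (key F _)).trans (map_add (d F) _ _)
  have hdel : ∀ (S : ShortComplex X.Modules) (hS : S.ShortExact)
      (hA : (S.map (CohCmp.toAbOn X U)).ShortExact) (x : Coh.HHon X S.X₃ U p),
      β S.X₁ (CohCmp.extδ hA p x) = (Δ.δ S hS p (p + 1) rfl).app W (α S.X₃ x) := fun S hS hA x => by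
    haveI := hS.mono_f
    haveI := hS.epi_g
    let t₂ : S.X₂ ⟶ (injM S.X₁).X₂ := Injective.factorThru (Injective.ι S.X₁) S.f
    have h₂ : S.f ≫ t₂ = Injective.ι S.X₁ := Injective.comp_factorThru _ _
    let φ : S ⟶ injM S.X₁ :=
      { τ₁ := 𝟙 _
        τ₂ := t₂
        τ₃ := hS.exact.desc (t₂ ≫ (injM S.X₁).g)
          (by rw [← Category.assoc, h₂]; exact cokernel.condition _)
        comm₁₂ := by simpa using h₂.symm
        comm₂₃ := (hS.exact.g_desc _ _).symm }
    have h1 : CohPull.mapH ((Scheme.Modules.restrictFunctor U.ι).map φ.τ₁) (p + 1) (CohCmp.extδ hA p x) =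
        CohCmp.extδ hA p x := by
      refine (congrArg (fun t => Sheaf.H.map t (p + 1) (CohCmp.extδ hA p x)) ?_).trans (Sheaf.H.map_id_apply _)
      exact (CohCmp.toAbOn X U).map_id S.X₁
    refine (congrArg (fun t => d S.X₁ (c S.X₁ t))
      (h1.symm.trans (extδ_natural U φ hA (shortExact_toAbOn (injM_shortExact S.X₁) U) p x))).trans ?_
    refine (key S.X₁ _).trans ?_
    refine (congrArg ((Δ.δ _ (injM_shortExact S.X₁) p (p + 1) rfl).app W) (hα φ.τ₃ x)).trans ?_
    refine (congrArg (fun ψ => ψ.app W (α S.X₃ x)) (Δ.δ_natural hS (injM_shortExact S.X₁) φ p (p + 1) rfl)).trans ?_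
    show ((Coh.Rpush f (p + 1)).map φ.τ₁).app W _ = _
    rw [CategoryTheory.Functor.map_id]
    rfl
  refine ⟨β, fun {F G} ψ x => ?_, hdel⟩
  let φ : injM F ⟶ injM G :=
    { τ₁ := ψ
      τ₂ := Injective.factorThru (ψ ≫ Injective.ι G) (Injective.ι F)
      τ₃ := cokernel.map _ _ ψ (Injective.factorThru (ψ ≫ Injective.ι G) (Injective.ι F))
        (Injective.comp_factorThru _ _)
      comm₁₂ := (Injective.comp_factorThru _ _).symm
      comm₂₃ := (cokernel.π_desc _ _ _).symm }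
  refine (congrArg (fun t => β G (CohPull.mapH ((Scheme.Modules.restrictFunctor U.ι).map ψ) (p + 1) t)) (hc F x).symm).trans ?_
  refine (congrArg (β G) (extδ_natural U φ _ (shortExact_toAbOn (injM_shortExact G) U) p (c F x))).trans ?_
  refine (hdel _ (injM_shortExact G) _ _).trans ?_
  refine (congrArg ((Δ.δ _ (injM_shortExact G) p (p + 1) rfl).app W) (hα φ.τ₃ (c F x))).trans ?_
  exact congrArg (fun t => t.app W (α (injM F).X₃ (c F x))) (Δ.δ_natural (injM_shortExact F) (injM_shortExact G) φ p (p + 1) rfl)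

/-- The comparison in degree zero. -/
def comp₀ (V : Y.Opens) (F : X.Modules) : Coh.HHon X F (f ⁻¹ᵁ V) 0 →+ Γ((Coh.Rpush f 0).obj F, V) :=
  (((Scheme.Modules.pushforward f).toRightDerivedZero.app F).app V).hom.comp
    (CohPull.sectH0 F (f ⁻¹ᵁ V)).symm.toAddMonoidHom

lemma comp₀_sectH0 (V : Y.Opens) (F : X.Modules) (s : Γ(F, f ⁻¹ᵁ V)) :
    comp₀ f V F (CohPull.sectH0 F (f ⁻¹ᵁ V) s) = ((Scheme.Modules.pushforward f).toRightDerivedZero.app F).app V s :=
  congrArg (((Scheme.Modules.pushforward f).toRightDerivedZero.app F).app V)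
    ((CohPull.sectH0 F (f ⁻¹ᵁ V)).symm_apply_apply s)

lemma isNat_comp₀ (V : Y.Opens) : IsNat f (f ⁻¹ᵁ V) V 0 (comp₀ f V) := by
  intro F G ψ x
  obtain ⟨s, rfl⟩ := (CohPull.sectH0 F (f ⁻¹ᵁ V)).surjective x
  have h : CohPull.mapH ((Scheme.Modules.restrictFunctor (f ⁻¹ᵁ V).ι).map ψ) 0
      (CohPull.sectH0 F (f ⁻¹ᵁ V) s) = CohPull.sectH0 G (f ⁻¹ᵁ V) (ψ.app (f ⁻¹ᵁ V) s) :=
    (Sheaf.H.equiv₀_symm_naturality _ _ _).trans (congrArg (Sheaf.H.equiv₀ _ isTerminalTop).symm
      (M1.app_mres ψ (le_of_eq (f ⁻¹ᵁ V).ι_image_top) s))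
  rw [h, comp₀_sectH0, comp₀_sectH0]
  exact congrArg (fun φ => φ.app V s) ((Scheme.Modules.pushforward f).toRightDerivedZero.naturality ψ)

/-- Natural families in one degree. -/
def Fam (V : Y.Opens) (p : ℕ) : Type (u + 1) :=
  {α : ∀ F : X.Modules, Coh.HHon X F (f ⁻¹ᵁ V) p →+ Γ((Coh.Rpush f p).obj F, V) // IsNat f (f ⁻¹ᵁ V) V p α}

variable {f} in
/-- The next natural family. -/
def Fam.succ {V : Y.Opens} {p : ℕ} (x : Fam f V p) : Fam f V (p + 1) :=
  ⟨(exists_succ Δ x.2).choose, (exists_succ Δ x.2).choose_spec.1⟩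

/-- All degrees. -/
def compFam (V : Y.Opens) : ∀ p : ℕ, Fam f V p
  | 0 => ⟨comp₀ f V, isNat_comp₀ f V⟩
  | p + 1 => (compFam V p).succ Δ

/-- The comparison maps. -/
def sectCmp : CohCmp.SectCmp f Δ where
  ε V F p := (compFam f Δ V p).1 F
  zero V F s := comp₀_sectH0 f V F s
  natural V _ _ ψ p x := (compFam f Δ V p).2 ψ x
  delta V S hS hA p x := (exists_succ Δ (compFam f Δ V p).2).choose_spec.2 S hS hA x

/-- The comparison maps exist. -/
theorem exists_sectCmp : ∃ Δ : RDer.DerivedLES (Scheme.Modules.pushforward f), Nonempty (CohCmp.SectCmp f Δ) := by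
  obtain ⟨Δ⟩ := RDerLES.nonempty_derivedLES (Scheme.Modules.pushforward f)
  exact ⟨Δ, ⟨sectCmp f Δ⟩⟩

end Groth.Agent.BCTen1
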